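import Groth.Agent.AlgSpDec.Hens.RatLift
import Groth.Agent.AlgSpDec.LqfQuot
import Groth.Agent.AlgSpDec.MonoRep
import Groth.Agent.EtFound.Henselian
import Groth.Agent.GrpFieldLib.TwIrred
import Groth.Agent.DescLib.SigmaLocal
import Groth.Agent.BrnchLib.HenzQuot

/-!
# Charts of algebraic spaces catching points over henselian local rings
-/

set_option autoImplicit false
set_option backward.isDefEq.respectTransparency false
set_option backward.isDefEq.respectTransparency.types false

universe u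

open CategoryTheory Limits Opposite AlgebraicGeometry AlgSp Groth.Agent.AlgSpLib Groth.Agent.AlgSpPts

namespace Groth.Agent.AlgSpDec.Hens

variable {S : Scheme.{u}}

theorem isSeparated_sigmaOver {ι : Type u} (T : ι → Over S) (h : ∀ i, IsSeparated (T i).hom) :
    IsSeparated (sigmaOver T).hom := by
  haveI : IsSeparated (Limits.Sigma.map fun i => (T i).hom) :=
    DescLib.prop_sigmaMap @IsSeparated _ h
  haveI := GrpFieldLib.TwSplit.isSeparated_sigma (S := S) ι
  show IsSeparated (Sigma.desc fun i => (T i).hom)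
  have : (Sigma.desc fun i => (T i).hom) =
      Limits.Sigma.map (fun i => (T i).hom) ≫ Sigma.desc fun _ : ι => 𝟙 S :=
    Sigma.hom_ext _ _ fun i => by rw [Sigma.ι_desc, Sigma.ι_map_assoc, Sigma.ι_desc, Category.comp_id]
  rw [this]
  infer_instance

/-- A separated etale chart catching all field-valued points. -/
theorem exists_rat_chart (X : Space S) :
    ∃ (Z : Over S) (p : (yon S).obj Z ⟶ X.obj), IsSeparated Z.hom ∧ RepWith @Etale p ∧
      ∀ (k : Type u) [Field k] (str : Spec (CommRingCat.of k) ⟶ S) (x : (yon S).obj (Over.mk str) ⟶ X.obj),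
        ∃ y : Over.mk str ⟶ Z, (yon S).map y ≫ p = x := by
  obtain ⟨U0, p0, he, hs⟩ := X.property.atlas
  let U : U0.left.affineOpens → Over S := fun W => Over.mk (W.1.ι ≫ U0.hom)
  let a : ∀ W, (yon S).obj (U W) ⟶ X.obj := fun W =>
    (yon S).map (Over.homMk W.1.ι rfl : U W ⟶ U0) ≫ p0
  haveI : ∀ W, IsAffine (U W).left := fun W => W.2
  have ha : ∀ W, RepWith @Etale (a W) := fun W =>
    repWith_comp ((repWith_yon_map_iff _ _).2 (inferInstanceAs (Etale W.1.ι))) he
  choose V v hVs hve hlift using fun W => RatLift.exists_tuple_schemes X.property (ha W)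
  let T : U0.left.affineOpens × ULift.{u} ℕ → Over S := fun i => V i.1 i.2.down
  obtain ⟨p, hp⟩ := exists_hom_sigma T fun i => v i.1 i.2.down
  refine ⟨sigmaOver T, p, isSeparated_sigmaOver T fun i => hVs _ _,
    repWith_etale_sigma (X.property.representable_from_yon _) fun i => by rw [hp]; exact hve _ _, ?_⟩
  intro k _ str x
  obtain ⟨u, hu⟩ := surjective_ofPt hs (Points.ofPt x (IsLocalRing.closedPoint k))
  obtain ⟨W, hW, huW, -⟩ := exists_isAffineOpen_mem_and_subset (U := (⊤ : U0.left.Opens)) (x := u) trivial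
  obtain ⟨n, y, hy⟩ := hlift ⟨W, hW⟩ k str x ⟨⟨u, huW⟩, by
    show Points.ofPt ((yon S).map _ ≫ p0) _ = _
    rw [ofPt_comp]
    exact hu⟩
  refine ⟨y ≫ sigmaι T (⟨W, hW⟩, ULift.up n), ?_⟩
  rw [Functor.map_comp, Category.assoc, hp]
  exact hy

/-- Points over a henselian local ring lift to an etale chart when their closed points do. -/
theorem exists_lift_of_residue {F : Sp S} {Z : Over S} {p : (yon S).obj Z ⟶ F} (hp : RepWith @Etale p)
    (R : Type u) [CommRing R] [HenselianLocalRing R] {str : Spec (CommRingCat.of R) ⟶ S}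
    (x : (yon S).obj (Over.mk str) ⟶ F) (y₀ : Over.mk (EtFound.cpt R ≫ str) ⟶ Z)
    (h : (yon S).map y₀ ≫ p =
      (yon S).map (Over.homMk (EtFound.cpt R) rfl : Over.mk (EtFound.cpt R ≫ str) ⟶ Over.mk str) ≫ x) :
    ∃ g : Over.mk str ⟶ Z, (yon S).map g ≫ p = x ∧ (Over.homMk (EtFound.cpt R) rfl : _ ⟶ Over.mk str) ≫ g = y₀ := by
  have sq := hp.rep.isPullback' x
  obtain ⟨l, hl₁, hl₂⟩ := sq.exists_lift _ _ h
  obtain ⟨l', rfl⟩ := (yon S).map_surjective l
  rw [← Functor.map_comp] at hl₁ hl₂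
  let f : (hp.rep.pullback x).left ⟶ Spec (CommRingCat.of R) := (hp.rep.snd x).left
  haveI : Etale f := hp.property_snd x
  obtain ⟨σ, ⟨hσ, hσ₀⟩, -⟩ := EtFound.existsUnique_section R f l'.left
    (congrArg CommaMorphism.left ((yon S).map_injective hl₂))
  let σO : Over.mk str ⟶ hp.rep.pullback x := Over.homMk σ (by
    show σ ≫ (hp.rep.pullback x).hom = str
    rw [← Over.w (hp.rep.snd x), ← Category.assoc, hσ]
    exact Category.id_comp _)
  refine ⟨σO ≫ hp.rep.fst' x, ?_, ?_⟩
  · rw [Functor.map_comp, Category.assoc, sq.w, ← Category.assoc, ← Functor.map_comp,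
      show σO ≫ hp.rep.snd x = 𝟙 _ from Over.OverMorphism.ext hσ, CategoryTheory.Functor.map_id, Category.id_comp]
  · rw [← (yon S).map_injective hl₁, ← Category.assoc]
    congr 1
    exact Over.OverMorphism.ext hσ₀

/-- A chart catching the closed points catches all points over quotients of a henselian local ring. -/
theorem exists_lift_quotient {F : Sp S} {Z : Over S} {p : (yon S).obj Z ⟶ F} (hp : RepWith @Etale p)
    (R : Type u) [CommRing R] [HenselianLocalRing R] (str : Spec (CommRingCat.of R) ⟶ S)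
    (hk : ∀ x₀ : (yon S).obj (Over.mk (Spec.map (CommRingCat.ofHom (IsLocalRing.residue R)) ≫ str)) ⟶ F,
      ∃ y₀, (yon S).map y₀ ≫ p = x₀)
    (a : Ideal R) (x : (yon S).obj (Over.mk (Spec.map (CommRingCat.ofHom (Ideal.Quotient.mk a)) ≫ str)) ⟶ F) :
    ∃ g : Over.mk (Spec.map (CommRingCat.ofHom (Ideal.Quotient.mk a)) ≫ str) ⟶ Z, (yon S).map g ≫ p = x := by
  by_cases ha : a = ⊤
  · subst ha
    haveI : Subsingleton (R ⧸ (⊤ : Ideal R)) := Ideal.Quotient.subsingleton_iff.2 rfl
    haveI hE : IsEmpty ↥(Spec (CommRingCat.of (R ⧸ (⊤ : Ideal R)))) := inferInstanceAs (IsEmpty (PrimeSpectrum _))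
    let hI := isInitialOfIsEmpty (X := Spec (CommRingCat.of (R ⧸ (⊤ : Ideal R))))
    refine ⟨Over.homMk (hI.to _) (hI.hom_ext _ _), ?_⟩
    haveI : IsEmpty ↥(Over.mk (Spec.map (CommRingCat.ofHom (Ideal.Quotient.mk (⊤ : Ideal R))) ≫ str)).left := hE
    exact hom_ext_of_isEmpty _ _
  · haveI : Nontrivial (R ⧸ a) := Ideal.Quotient.nontrivial_iff.2 ha
    haveI : IsLocalRing (R ⧸ a) := IsLocalRing.of_surjective' (Ideal.Quotient.mk a) Ideal.Quotient.mk_surjective
    haveI : IsLocalHom (Ideal.Quotient.mk a) := Ideal.Quotient.mk_surjective.isLocalHom _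
    haveI : HenselianLocalRing (R ⧸ a) := Hensel.henselianLocalRing_of_finite R (R ⧸ a)
    let ε := RingEquiv.ofBijective (IsLocalRing.ResidueField.map (Ideal.Quotient.mk a))
      ⟨RingHom.injective _, fun r => by
        obtain ⟨r, rfl⟩ := IsLocalRing.residue_surjective r
        obtain ⟨r, rfl⟩ := Ideal.Quotient.mk_surjective r
        exact ⟨IsLocalRing.residue R r, rfl⟩⟩
    have e1 : Spec.map (CommRingCat.ofHom ε.symm.toRingHom) ≫ EtFound.cpt (R ⧸ a) ≫
        Spec.map (CommRingCat.ofHom (Ideal.Quotient.mk a)) ≫ str =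
        Spec.map (CommRingCat.ofHom (IsLocalRing.residue R)) ≫ str := by
      rw [← Spec.map_comp_assoc, ← Spec.map_comp_assoc]
      congr 2
      ext r
      exact ε.symm_apply_apply (IsLocalRing.residue R r)
    have e2 : Spec.map (CommRingCat.ofHom ε.toRingHom) ≫ Spec.map (CommRingCat.ofHom (IsLocalRing.residue R)) ≫ str =
        EtFound.cpt (R ⧸ a) ≫ Spec.map (CommRingCat.ofHom (Ideal.Quotient.mk a)) ≫ str := by
      rw [← Spec.map_comp_assoc, ← Spec.map_comp_assoc]
      congr 2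
    let E : Over.mk (Spec.map (CommRingCat.ofHom (IsLocalRing.residue R)) ≫ str) ⟶
        Over.mk (EtFound.cpt (R ⧸ a) ≫ Spec.map (CommRingCat.ofHom (Ideal.Quotient.mk a)) ≫ str) :=
      Over.homMk (Spec.map (CommRingCat.ofHom ε.symm.toRingHom)) e1
    let E' : Over.mk (EtFound.cpt (R ⧸ a) ≫ Spec.map (CommRingCat.ofHom (Ideal.Quotient.mk a)) ≫ str) ⟶
        Over.mk (Spec.map (CommRingCat.ofHom (IsLocalRing.residue R)) ≫ str) :=
      Over.homMk (Spec.map (CommRingCat.ofHom ε.toRingHom)) e2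
    let ι : Over.mk (EtFound.cpt (R ⧸ a) ≫ Spec.map (CommRingCat.ofHom (Ideal.Quotient.mk a)) ≫ str) ⟶
        Over.mk (Spec.map (CommRingCat.ofHom (Ideal.Quotient.mk a)) ≫ str) :=
      Over.homMk (EtFound.cpt (R ⧸ a)) rfl
    have hEE : E' ≫ E = 𝟙 _ := Over.OverMorphism.ext (by
      show Spec.map _ ≫ Spec.map _ = 𝟙 _
      rw [← Spec.map_comp, ← Spec.map_id]
      congr 1
      ext r
      exact ε.apply_symm_apply r)
    obtain ⟨y₀, hy₀⟩ := hk ((yon S).map (E ≫ ι) ≫ x)
    obtain ⟨g, hg, -⟩ := exists_lift_of_residue hp (R ⧸ a) x (E' ≫ y₀) (by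
      rw [Functor.map_comp, Category.assoc, hy₀]
      have hι : E' ≫ E ≫ ι = ι :=
        ((Category.assoc E' E ι).symm.trans (congrArg (· ≫ ι) hEE)).trans (Category.id_comp ι)
      exact (Category.assoc _ _ x).symm.trans
        (congrArg (· ≫ x) (((yon S).map_comp _ _).symm.trans (congrArg (yon S).map hι))))
    exact ⟨g, hg⟩

/-- A point over a local ring factors through an affine open subscheme of the chart. -/
theorem exists_affine_factor {Z : Over S} {R : Type u} [CommRing R] [IsLocalRing R]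
    {str : Spec (CommRingCat.of R) ⟶ S} (g : Over.mk str ⟶ Z) :
    ∃ (W : Z.left.Opens) (g' : Over.mk str ⟶ Over.mk (W.ι ≫ Z.hom)), IsAffineOpen W ∧
      g' ≫ (Over.homMk W.ι rfl : Over.mk (W.ι ≫ Z.hom) ⟶ Z) = g := by
  let z := g.left (IsLocalRing.closedPoint R)
  obtain ⟨W, hW, hzW, -⟩ := exists_isAffineOpen_mem_and_subset (U := (⊤ : Z.left.Opens)) (x := z) trivial
  have hr : Set.range g.left ⊆ Set.range W.ι := by
    rintro _ ⟨t, rfl⟩
    rw [Scheme.Opens.range_ι]
    exact ((IsLocalRing.specializes_closedPoint t).map g.left.continuous).mem_open W.2 hzW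
  refine ⟨W, Over.homMk (IsOpenImmersion.lift W.ι g.left hr) (by
    show _ ≫ W.ι ≫ Z.hom = str
    rw [IsOpenImmersion.lift_fac_assoc]
    exact Over.w g), hW, Over.OverMorphism.ext (IsOpenImmersion.lift_fac _ _ _)⟩

end Groth.Agent.AlgSpDec.Hens
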