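import Groth.Agent.AlgSpDec.DistQuot
import Groth.Agent.AlgSpDec.DecentDense
import Groth.Agent.AlgSpVal.DvrExt
import Groth.Agent.AlgSpLib.Sheaf

/-!
# Rational points of algebraic spaces lift to separated etale charts
-/

set_option autoImplicit false
set_option backward.isDefEq.respectTransparency false
set_option backward.isDefEq.respectTransparency.types false

universe u

open CategoryTheory Limits Opposite AlgebraicGeometry MorphismProperty AlgSp Groth.Agent.AlgSpLib
  Groth.Agent.AlgSpPts

namespace Groth.Agent.AlgSpDec.RatLift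

open DistTuples

variable {S : Scheme.{u}} {X : Sp S} {U : Over S} {a : (yon S).obj U ⟶ X}

/-- A morphism from the spectrum of a field to a scheme invariant under a Galois group descends. -/
theorem exists_descend {k N : Type u} [Field k] [Field N] [Algebra k N] [FiniteDimensional k N] [IsGalois k N]
    {V : Scheme.{u}} (y' : Spec (CommRingCat.of N) ⟶ V)
    (hinv : ∀ σ : N ≃ₐ[k] N, Spec.map (CommRingCat.ofHom (σ : N →+* N)) ≫ y' = y') :
    ∃ y : Spec (CommRingCat.of k) ⟶ V, Spec.map (CommRingCat.ofHom (algebraMap k N)) ≫ y = y' := by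
  obtain ⟨⟨v, θ⟩, hθ⟩ := (Scheme.SpecToEquivOfField N V).symm.surjective y'
  change Spec.map θ ≫ V.fromSpecResidueField v = y' at hθ
  have hfix : ∀ (σ : N ≃ₐ[k] N) (r : V.residueField v), σ (θ.hom r) = θ.hom r := by
    intro σ r
    have h := hinv σ
    rw [← hθ, ← Spec.map_comp_assoc, cancel_mono] at h
    exact congrArg (fun m => m.hom r) (Spec.map_injective h)
  choose ψ hψ using fun r => (IsGalois.mem_range_algebraMap_iff_fixed (F := k) (θ.hom r)).2 fun σ => hfix σ r
  have hi := (algebraMap k N).injective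
  let ψ' : V.residueField v ⟶ CommRingCat.of k := CommRingCat.ofHom
    { toFun := ψ
      map_one' := hi (by rw [hψ, map_one, map_one])
      map_zero' := hi (by rw [hψ, map_zero, map_zero])
      map_mul' := fun r s => hi (by rw [hψ, map_mul, map_mul, hψ, hψ])
      map_add' := fun r s => hi (by rw [hψ, map_add, map_add, hψ, hψ]) }
  refine ⟨Spec.map ψ' ≫ V.fromSpecResidueField v, ?_⟩
  rw [← hθ, ← Spec.map_comp_assoc]
  congr 2
  ext r
  exact hψ r

/-- Over an affine etale chart the schemes of unordered tuples of lifts catch all rational points. -/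
theorem exists_tuple_schemes (hX : IsAlgSpace X) [IsAffine U.left] (ha : RepWith @Etale a) :
    ∃ (V : ℕ → Over S) (v : ∀ n, (yon S).obj (V n) ⟶ X), (∀ n, IsSeparated (V n).hom) ∧
      (∀ n, RepWith @Etale (v n)) ∧
      ∀ (k : Type u) [Field k] (str : Spec (CommRingCat.of k) ⟶ S) (x : (yon S).obj (Over.mk str) ⟶ X),
        Points.ofPt x (IsLocalRing.closedPoint k) ∈ Set.range (Points.ofPt a) →
          ∃ (n : ℕ) (y : Over.mk str ⟶ V n), (yon S).map y ≫ v n = x := by
  choose W π hw hlift hext het hsep hqc hd using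
    fun n => exists_distinct ha (isSeparated_snd_of_isAffine ha) n
  choose V v q hVs hVc hve hqe hqs hqv hperm using fun n => exists_unordered hX ha (hw n) (hlift n)
    (hext n) (het n) (hsep n) (hqc n) (hd n)
  refine ⟨V, v, fun n => ?_, hve, ?_⟩
  · haveI := hVs n
    infer_instance
  intro k _ str x hx
  obtain ⟨u₀, hu₀⟩ := hx
  have sqF := ha.rep.isPullback' x
  obtain ⟨z, -, -⟩ := exists_ofPt_of_eq sqF hu₀
  let F : Scheme.{u} := (ha.rep.pullback x).left
  let pk : F ⟶ Spec (CommRingCat.of k) := (ha.rep.snd x).left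
  haveI : Etale pk := ha.property_snd x
  obtain ⟨ψ, hψ⟩ := Spec.map_surjective (F.fromSpecResidueField z ≫ pk)
  letI := ψ.hom.toAlgebra
  obtain ⟨_, _⟩ := AlgSpVal.finite_separable_of_etale pk z ψ hψ
  let L := F.residueField z
  let N := IntermediateField.normalClosure k L (SeparableClosure k)
  haveI : IsGalois k N := inferInstance
  haveI : FiniteDimensional k N := inferInstance
  let θ : L →ₐ[k] N :=
    AlgHom.codRestrict (IsSepClosed.lift : L →ₐ[k] SeparableClosure k) N.toSubalgebra fun l =>
      AlgHom.fieldRange_le_normalClosure _ ⟨l, rfl⟩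
  let strN : Spec (CommRingCat.of N) ⟶ S := Spec.map (CommRingCat.ofHom (algebraMap k N)) ≫ str
  let e : Over.mk strN ⟶ Over.mk str := Over.homMk (Spec.map (CommRingCat.ofHom (algebraMap k N))) rfl
  let w : Over.mk strN ⟶ ha.rep.pullback x :=
    Over.homMk (Spec.map (CommRingCat.ofHom (θ : L →+* N)) ≫ F.fromSpecResidueField z) (by
      show (Spec.map (CommRingCat.ofHom (θ : L →+* N)) ≫ F.fromSpecResidueField z) ≫
        (ha.rep.pullback x).hom = strN
      rw [← Over.w (ha.rep.snd x)]
      show (Spec.map (CommRingCat.ofHom (θ : L →+* N)) ≫ F.fromSpecResidueField z) ≫ pk ≫ str = strN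
      rw [Category.assoc, ← Category.assoc (F.fromSpecResidueField z), ← hψ, ← Spec.map_comp_assoc]
      congr 2
      ext c
      exact congrArg (fun n : N => (n.1).1) (θ.commutes c))
  have hwe : w ≫ ha.rep.snd x = e := Over.OverMorphism.ext (by
    show (Spec.map (CommRingCat.ofHom (θ : L →+* N)) ≫ F.fromSpecResidueField z) ≫ pk = _
    rw [Category.assoc, ← hψ, ← Spec.map_comp]
    congr 1
    ext c
    exact congrArg (fun n : N => (n.1).1) (θ.commutes c))
  let g₀ : Over.mk strN ⟶ U := w ≫ ha.rep.fst' x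
  have hg₀ : (yon S).map g₀ ≫ a = (yon S).map e ≫ x := by
    rw [Functor.map_comp, Category.assoc, sqF.w, ← Category.assoc, ← Functor.map_comp, hwe]
  let cj : (N ≃ₐ[k] N) → (Over.mk strN ⟶ Over.mk strN) := fun σ =>
    Over.homMk (Spec.map (CommRingCat.ofHom (σ : N →+* N))) (by
      show Spec.map (CommRingCat.ofHom (σ : N →+* N)) ≫ Spec.map (CommRingCat.ofHom (algebraMap k N)) ≫ str = strN
      rw [← Spec.map_comp_assoc]
      congr 2
      ext c
      exact congrArg (fun n : N => (n.1).1) (σ.commutes c))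
  have hcje : ∀ σ, cj σ ≫ e = e := fun σ => Over.OverMorphism.ext (by
    show Spec.map (CommRingCat.ofHom (σ : N →+* N)) ≫ Spec.map (CommRingCat.ofHom (algebraMap k N)) = _
    rw [← Spec.map_comp]
    congr 1
    ext c
    exact congrArg (fun n : N => (n.1).1) (σ.commutes c))
  have hmul : ∀ σ τ, cj σ ≫ cj τ = cj (σ * τ) := fun σ τ => Over.OverMorphism.ext (by
    show Spec.map (CommRingCat.ofHom (σ : N →+* N)) ≫ Spec.map (CommRingCat.ofHom (τ : N →+* N)) = _
    rw [← Spec.map_comp]
    rfl)
  have hone : cj 1 = 𝟙 _ := Over.OverMorphism.ext (by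
    show Spec.map (CommRingCat.ofHom _) = _
    exact Spec.map_id _)
  let Sx : Set (Over.mk strN ⟶ U) := Set.range fun σ => cj σ ≫ g₀
  haveI : Fintype (N ≃ₐ[k] N) := Fintype.ofFinite _
  haveI : Nonempty Sx := ⟨⟨g₀, 1, by simp [hone]⟩⟩
  letI : Fintype Sx := Fintype.ofFinite _
  obtain ⟨m, hm⟩ : ∃ m, Fintype.card Sx = m + 1 := ⟨_, (Nat.succ_pred_eq_of_pos Fintype.card_pos).symm⟩
  let en : Fin (m + 1) ≃ Sx := (Fintype.equivFinOfCardEq hm).symm
  let g : Fin (m + 1) → (Over.mk strN ⟶ U) := fun i => (en i).1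
  have hgx : ∀ i, (yon S).map (g i) ≫ a = (yon S).map e ≫ x := fun i => by
    obtain ⟨σ, hσ⟩ := (en i).2
    rw [show g i = _ from hσ.symm, Functor.map_comp, Category.assoc, hg₀, ← Category.assoc, ← Functor.map_comp, hcje]
  obtain ⟨h, hh⟩ := hlift m g (fun i j => (hgx i).trans (hgx j).symm)
    (isDist_of_injective (Subtype.val_injective.comp en.injective))
  have hinv : ∀ σ, cj σ ≫ h ≫ q m = h ≫ q m := by
    intro σ
    have hmem : ∀ s : Sx, cj σ ≫ s.1 ∈ Sx := fun ⟨s, τ, hτ⟩ => ⟨σ * τ, by
      show cj (σ * τ) ≫ g₀ = cj σ ≫ s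
      rw [← hmul, ← hτ, Category.assoc]⟩
    let f : Sx → Sx := fun s => ⟨_, hmem s⟩
    have hf : Function.Bijective f := Finite.injective_iff_bijective.1 fun s t hst => by
      have h1 := congrArg (fun r : Sx => cj σ⁻¹ ≫ r.1) hst
      simp only [f, ← Category.assoc, hmul, inv_mul_cancel, hone, Category.id_comp] at h1
      exact Subtype.ext h1
    let p : Equiv.Perm (Fin (m + 1)) := en.trans ((Equiv.ofBijective f hf).trans en.symm)
    rw [← Category.assoc]
    refine (hperm m h (cj σ ≫ h) p fun i => ?_).symm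
    rw [Category.assoc, hh, hh]
    show cj σ ≫ g i = (en (en.symm (f (en i)))).1
    rw [Equiv.apply_symm_apply]
  obtain ⟨y, hy⟩ := exists_descend (k := k) (h ≫ q m).left fun σ => congrArg CommaMorphism.left (hinv σ)
  haveI : Algebra.Etale k N :=
    { formallyEtale := Algebra.FormallyEtale.of_isSeparable k N
      finitePresentation := Algebra.FinitePresentation.of_finiteType.1 inferInstance }
  have heE : Etale e.left := (HasRingHomProperty.Spec_iff (P := @Etale)).2
    (RingHom.etale_algebraMap.2 inferInstance)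
  haveI : Surjective e.left := ⟨fun t => ⟨IsLocalRing.closedPoint N, Subsingleton.elim (α := PrimeSpectrum k) _ _⟩⟩
  haveI : Epi ((yon S).map e) :=
    epi_of_etale_surjective ((repWith_yon_map_iff _ e).2 heE) ((repWith_yon_map_iff _ e).2 inferInstance)
  have hyw : y ≫ (V m).hom = str := by
    rw [← cancel_epi e.left]
    show Spec.map (CommRingCat.ofHom (algebraMap k N)) ≫ y ≫ (V m).hom = strN
    rw [← Category.assoc, hy]
    exact Over.w (h ≫ q m)
  refine ⟨m, Over.homMk y hyw, ?_⟩
  have hey : e ≫ (Over.homMk y hyw : Over.mk str ⟶ V m) = h ≫ q m := Over.OverMorphism.ext hy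
  rw [← cancel_epi ((yon S).map e), ← Category.assoc, ← Functor.map_comp, hey, Functor.map_comp, Category.assoc,
    hqv, ← Category.assoc, ← Functor.map_comp, hh]
  exact hgx 0

end Groth.Agent.AlgSpDec.RatLift
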