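import Groth.Agent.AlgSpDec.Hens.Chart
import Groth.Agent.Hensel.SmoothLift
import Groth.Agent.Hensel.PairBasic

/-!
# Smooth schemes over henselian local rings
-/

set_option autoImplicit false
set_option backward.isDefEq.respectTransparency false
set_option backward.isDefEq.respectTransparency.types false

universe u

open CategoryTheory Limits AlgebraicGeometry

namespace Groth.Agent.AlgSpDec.Hens

/-- Points over a quotient of a henselian pair lift to a smooth affine scheme. -/
theorem exists_smooth_section {R : Type u} [CommRing R] (I : Ideal R) [HenselianRing R I] {U : Scheme.{u}}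
    [IsAffine U] (f : U ⟶ Spec (CommRingCat.of R)) [Smooth f] (v : Spec (CommRingCat.of (R ⧸ I)) ⟶ U)
    (hv : v ≫ f = Spec.map (CommRingCat.ofHom (Ideal.Quotient.mk I))) :
    ∃ σ : Spec (CommRingCat.of R) ⟶ U, σ ≫ f = 𝟙 _ ∧ Spec.map (CommRingCat.ofHom (Ideal.Quotient.mk I)) ≫ σ = v := by
  obtain ⟨φR, hφR⟩ := Spec.map_surjective (U.isoSpec.inv ≫ f)
  obtain ⟨φv, hφv⟩ := Spec.map_surjective (v ≫ U.isoSpec.hom)
  have hsm : Smooth (Spec.map φR) := by rw [hφR]; infer_instance
  have h := (HasRingHomProperty.Spec_iff (P := @Smooth)).mp hsm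
  algebraize [φR.hom]
  have hcomp : φR ≫ φv = CommRingCat.ofHom (Ideal.Quotient.mk I) := by
    apply Spec.map_injective
    rw [Spec.map_comp, hφR, hφv, Category.assoc, Iso.hom_inv_id_assoc, hv]
  let σ : Γ(U, ⊤) →ₐ[R] R ⧸ I := { φv.hom with commutes' := fun r => congr(($hcomp).hom r) }
  obtain ⟨τ, hτ⟩ := Hensel.exists_smooth_lift I σ
  have h1 : φR ≫ CommRingCat.ofHom τ.toRingHom = 𝟙 _ := by ext r; exact τ.commutes r
  have h2 : CommRingCat.ofHom τ.toRingHom ≫ CommRingCat.ofHom (Ideal.Quotient.mk I) = φv := by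
    ext s; exact congr($hτ s)
  refine ⟨Spec.map (CommRingCat.ofHom τ.toRingHom) ≫ U.isoSpec.inv, ?_, ?_⟩
  · rw [Category.assoc, ← hφR, ← Spec.map_comp, h1, Spec.map_id]
  · rw [← Category.assoc, ← Spec.map_comp, h2, hφv, Category.assoc, Iso.hom_inv_id, Category.comp_id]

/-- Points over a proper quotient of a henselian local ring lift to a smooth scheme. -/
theorem exists_smooth_section_local {R : Type u} [CommRing R] [HenselianLocalRing R] (I : Ideal R) (hI : I ≠ ⊤)
    {U : Scheme.{u}} (f : U ⟶ Spec (CommRingCat.of R)) [Smooth f] (v : Spec (CommRingCat.of (R ⧸ I)) ⟶ U)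
    (hv : v ≫ f = Spec.map (CommRingCat.ofHom (Ideal.Quotient.mk I))) :
    ∃ σ : Spec (CommRingCat.of R) ⟶ U, σ ≫ f = 𝟙 _ ∧ Spec.map (CommRingCat.ofHom (Ideal.Quotient.mk I)) ≫ σ = v := by
  haveI : HenselianRing R I := Hensel.henselianRing_of_le (IsLocalRing.le_maximalIdeal hI)
  haveI : Nontrivial (R ⧸ I) := Ideal.Quotient.nontrivial_iff.2 hI
  haveI : IsLocalRing (R ⧸ I) := IsLocalRing.of_surjective' (Ideal.Quotient.mk I) Ideal.Quotient.mk_surjective
  let z := v (IsLocalRing.closedPoint (R ⧸ I))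
  obtain ⟨W, hW, hzW, -⟩ := exists_isAffineOpen_mem_and_subset (U := (⊤ : U.Opens)) (x := z) trivial
  haveI : IsAffine W.toScheme := hW
  have hr : Set.range v ⊆ Set.range W.ι := by
    rintro _ ⟨t, rfl⟩
    rw [Scheme.Opens.range_ι]
    exact ((IsLocalRing.specializes_closedPoint t).map v.continuous).mem_open W.2 hzW
  obtain ⟨σ, h1, h2⟩ := exists_smooth_section I (W.ι ≫ f) (IsOpenImmersion.lift W.ι v hr)
    (by rw [IsOpenImmersion.lift_fac_assoc, hv])
  exact ⟨σ ≫ W.ι, by rw [Category.assoc, h1], by rw [← Category.assoc, h2, IsOpenImmersion.lift_fac]⟩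

end Groth.Agent.AlgSpDec.Hens

namespace Groth.Agent.AlgSpDec.Hens

open AlgSp Groth.Agent.AlgSpLib Groth.Agent.AlgSpPts

/-- Closed-fibre points of a smooth algebraic space over a henselian local ring extend to sections. -/
theorem exists_section_smooth {S : Scheme.{u}} {F : Space S} {R : Type u} [CommRing R] [HenselianLocalRing R]
    {str : Spec (CommRingCat.of R) ⟶ S} (q : F.obj ⟶ (yon S).obj (Over.mk str)) (hs : LocP @Smooth q)
    (x₀ : (yon S).obj (Over.mk (Spec.map (CommRingCat.ofHom (IsLocalRing.residue R)) ≫ str)) ⟶ F.obj)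
    (w : x₀ ≫ q = (yon S).map (Over.homMk (Spec.map (CommRingCat.ofHom (IsLocalRing.residue R))) rfl :
      Over.mk (Spec.map (CommRingCat.ofHom (IsLocalRing.residue R)) ≫ str) ⟶ Over.mk str)) :
    ∃ x : (yon S).obj (Over.mk str) ⟶ F.obj, x ≫ q = 𝟙 _ ∧
      (yon S).map (Over.homMk (Spec.map (CommRingCat.ofHom (IsLocalRing.residue R))) rfl :
        Over.mk (Spec.map (CommRingCat.ofHom (IsLocalRing.residue R)) ≫ str) ⟶ Over.mk str) ≫ x = x₀ := by
  obtain ⟨Z', p, -, hp, hlift⟩ := exists_rat_chart F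
  obtain ⟨y₀, hy₀⟩ := hlift _ _ x₀
  obtain ⟨h, hh⟩ := (yon S).map_surjective (p ≫ q)
  haveI : Smooth h.left := hs p (𝟙 _) h hp (AlgSp.repWith_id _ _) (by rw [hh, Category.comp_id])
  have hy : y₀ ≫ h = Over.homMk (Spec.map (CommRingCat.ofHom (IsLocalRing.residue R))) rfl :=
    (yon S).map_injective (by rw [Functor.map_comp, hh, ← Category.assoc, hy₀, w])
  obtain ⟨σ, h1, h2⟩ := exists_smooth_section_local (IsLocalRing.maximalIdeal R)
    (IsLocalRing.maximalIdeal.isMaximal R).ne_top h.left y₀.left (congrArg CommaMorphism.left hy :)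
  let σO : Over.mk str ⟶ Z' := Over.homMk σ (by
    show σ ≫ Z'.hom = str
    rw [← Over.w h, ← Category.assoc, h1]
    exact Category.id_comp _)
  refine ⟨(yon S).map σO ≫ p, ?_, ?_⟩
  · rw [Category.assoc, ← hh, ← Functor.map_comp, show σO ≫ h = 𝟙 _ from Over.OverMorphism.ext h1,
      CategoryTheory.Functor.map_id]
  · rw [← Category.assoc, ← Functor.map_comp, show _ ≫ σO = y₀ from Over.OverMorphism.ext h2, hy₀]

end Groth.Agent.AlgSpDec.Hens
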